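import Groth.Agent.Sga3.H765.WtMat

/-!
# Representations of `D(M)` and torsion points

`Q` a group over `Spec R` with a monomorphism `ρ : Q ⟶ GL_m`, `τ : D(M) ⟶ Q` a homomorphism, `ψ : Γ → D(M)(R)` a finite
group of points separating the weights of `ρ ∘ τ`.

* `idem`: the weight projections as linear combinations of the matrices of the points of `Γ`.
* `commute_of_tors`: a point of `Q` commuting with `τ(ψ(Γ))` commutes with `τ`.
-/

set_option autoImplicit false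
set_option linter.unusedSectionVars false
universe u
open CategoryTheory MonoidalCategory CartesianMonoidalCategory MonObj GrpObj AlgebraicGeometry Limits

namespace Groth.Agent.Sga3.H765.TorsFix

open Groth.Agent.Sga3B.DSPts Groth.Agent.Sga3B.GLn WtMat

section group

variable {G : Type*} [Group G] {g h a b k t : G}

lemma grp1 (H : g * a * g⁻¹ = h * a * h⁻¹) : (h⁻¹ * g) * a = a * (h⁻¹ * g) := by
  have h1 : g * a = h * a * h⁻¹ * g := by rw [← H]; group
  calc (h⁻¹ * g) * a = h⁻¹ * (g * a) := by group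
    _ = a * (h⁻¹ * g) := by rw [h1]; group

lemma grp2 (H : (h⁻¹ * g) * a = a * (h⁻¹ * g)) : g * a * g⁻¹ = h * a * h⁻¹ := by
  calc g * a * g⁻¹ = h * ((h⁻¹ * g) * a) * g⁻¹ := by group
    _ = h * a * h⁻¹ := by rw [H]; group

lemma grp3 (H : b * (k * t * k⁻¹) = (k * t * k⁻¹) * b) : (k⁻¹ * b * k) * t = t * (k⁻¹ * b * k) := by
  calc (k⁻¹ * b * k) * t = k⁻¹ * (b * (k * t * k⁻¹)) * k := by group
    _ = t * (k⁻¹ * b * k) := by rw [H]; group

lemma grp4 (H : (k⁻¹ * b * k) * t = t * (k⁻¹ * b * k)) : (k * t * k⁻¹) * b = b * (k * t * k⁻¹) := by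
  calc (k * t * k⁻¹) * b = k * (t * (k⁻¹ * b * k)) * k⁻¹ := by group
    _ = b * (k * t * k⁻¹) := by rw [← H]; group

end group

section algebra

variable {R : Type u} [CommRing R] {M : Type} [AddCommGroup M] [DecidableEq M] {m : Type u} [Fintype m]
  [DecidableEq m] {Γ : Type*} [CommGroup Γ] [Fintype Γ]

/-- separation of the weights in `Λ` by the points of `Γ` -/
def Sep (χ : Γ →* (Multiplicative M →* R)) (Λ : Finset M) : Prop :=
  IsUnit ((Fintype.card Γ : ℕ) : R) ∧ ∀ l ∈ Λ, ∀ k ∈ Λ, l ≠ k →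
    ∃ γ, IsUnit (χ γ (Multiplicative.ofAdd l) - χ γ (Multiplicative.ofAdd k))

variable {χ : Γ →* (Multiplicative M →* R)} {Λ : Finset M} {e : M → Matrix m m R}

lemma Sep.map (h : Sep χ Λ) {A : Type u} [CommRing A] (φ : R →+* A) :
    Sep (Γ := Γ) (M := M) (R := A)
      ((MonoidHom.compHom (φ : R →* A)).comp χ) Λ := by
  refine ⟨?_, fun l hl k hk hlk => ?_⟩
  · have := h.1.map φ
    rwa [map_natCast] at this
  · obtain ⟨γ, hγ⟩ := h.2 l hl k hk hlk
    refine ⟨γ, ?_⟩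
    have := hγ.map φ
    rwa [map_sub] at this

lemma chi_mul_inv (χ : Γ →* (Multiplicative M →* R)) (γ : Γ) (l : Multiplicative M) :
    χ γ l * χ γ⁻¹ l = 1 := by
  rw [← MonoidHom.mul_apply, ← map_mul, mul_inv_cancel, map_one, MonoidHom.one_apply]

lemma Sep.sum_eq_zero (h : Sep χ Λ) {l k : M} (hl : l ∈ Λ) (hk : k ∈ Λ) (hlk : l ≠ k) :
    ∑ γ, χ γ (Multiplicative.ofAdd l) * χ γ⁻¹ (Multiplicative.ofAdd k) = 0 := by
  obtain ⟨δ, hδ⟩ := h.2 l hl k hk hlk
  set s := ∑ γ, χ γ (Multiplicative.ofAdd l) * χ γ⁻¹ (Multiplicative.ofAdd k) with hs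
  have h1 : χ δ (Multiplicative.ofAdd l) * χ δ⁻¹ (Multiplicative.ofAdd k) * s = s := by
    rw [hs, Finset.mul_sum]
    refine Fintype.sum_equiv (Equiv.mulLeft δ) _ _ fun γ => ?_
    rw [Equiv.coe_mulLeft, map_mul, _root_.mul_inv, map_mul, MonoidHom.mul_apply,
      MonoidHom.mul_apply]
    ring
  have h2 : (χ δ (Multiplicative.ofAdd l) - χ δ (Multiplicative.ofAdd k)) * s = 0 := by
    have h3 := congrArg (fun x => χ δ (Multiplicative.ofAdd k) * x) h1
    have h4 : χ δ (Multiplicative.ofAdd k) *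
        (χ δ (Multiplicative.ofAdd l) * χ δ⁻¹ (Multiplicative.ofAdd k) * s) =
        (χ δ (Multiplicative.ofAdd k) * χ δ⁻¹ (Multiplicative.ofAdd k)) *
          (χ δ (Multiplicative.ofAdd l) * s) := by ring
    have h5 : χ δ (Multiplicative.ofAdd l) * s = χ δ (Multiplicative.ofAdd k) * s := by
      rw [← h3, h4, chi_mul_inv, _root_.one_mul]
    rw [sub_mul, h5, sub_self]
  exact (IsUnit.mul_right_eq_zero hδ).mp h2

lemma sum_self (χ : Γ →* (Multiplicative M →* R)) (l : Multiplicative M) :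
    ∑ γ, χ γ l * χ γ⁻¹ l = (Fintype.card Γ : ℕ) := by
  simp [chi_mul_inv]

/-- The weight projections are linear combinations of the matrices of the points of `Γ`. -/
lemma idem (h : Sep χ Λ) {k : M} (hk : k ∈ Λ) :
    ∑ γ, χ γ⁻¹ (Multiplicative.ofAdd k) • val (RingHom.id R) Λ e (χ γ) =
      ((Fintype.card Γ : ℕ) : R) • e k := by
  simp only [val, Finset.smul_sum, smul_smul]
  rw [Finset.sum_comm, Finset.sum_eq_single k]
  · rw [← Finset.sum_smul]
    congr 1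
    · rw [← sum_self χ (Multiplicative.ofAdd k)]
      exact Finset.sum_congr rfl fun γ _ => mul_comm _ _
  · intro l hl hlk
    rw [← Finset.sum_smul]
    have h1 := h.sum_eq_zero hl hk hlk
    have h2 : ∑ γ, χ γ⁻¹ (Multiplicative.ofAdd k) * χ γ (Multiplicative.ofAdd l) = 0 := by
      rw [← h1]
      exact Finset.sum_congr rfl fun γ _ => mul_comm _ _
    rw [h2, zero_smul]
  · intro hk'
    exact absurd hk hk'

/-- A matrix commuting with the matrices of the points of `Γ` commutes with the weight projections. -/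
lemma commute_e (h : Sep χ Λ) (he : IsWt Λ e) {N : Matrix m m R}
    (hN : ∀ γ, N * val (RingHom.id R) Λ e (χ γ) = val (RingHom.id R) Λ e (χ γ) * N) (k : M) :
    N * e k = e k * N := by
  by_cases hk : k ∈ Λ
  · have h1 : N * (((Fintype.card Γ : ℕ) : R) • e k) = (((Fintype.card Γ : ℕ) : R) • e k) * N := by
      rw [← idem h hk, Finset.mul_sum, Finset.sum_mul]
      refine Finset.sum_congr rfl fun γ _ => ?_
      rw [Matrix.mul_smul, Matrix.smul_mul, hN]
    rw [Matrix.mul_smul, Matrix.smul_mul] at h1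
    exact h.1.smul_left_cancel.mp h1
  · rw [he.supp k hk, mul_zero, zero_mul]

end algebra

section scheme

variable {R : Type u} [CommRing R] {M : Type} [AddCommGroup M] {Γ : Type*} [CommGroup Γ]

/-- functions on the base -/
noncomputable def sti (R : Type u) [CommRing R] :
    Γ((𝟙_ (Over (Spec (CommRingCat.of R)))).left, ⊤) →+* R :=
  (Scheme.ΓSpecIso (CommRingCat.of R)).hom.hom

lemma st_sti (X : Over (Spec (CommRingCat.of R))) (a) :
    st X (sti R a) = (toUnit X).left.appTop a := by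
  have h1 : (toUnit X).left = X.hom := Over.toUnit_left
  have h2 : (Scheme.ΓSpecIso (CommRingCat.of R)).inv (sti R a) = a := by
    have h3 := (Scheme.ΓSpecIso (CommRingCat.of R)).hom_inv_id
    exact congr($(h3).hom a)
  rw [st_apply, h1]
  exact congrArg X.hom.appTop h2

/-- the characters of `M` attached to a group of sections of `D(M)` -/
noncomputable def chiR (ψ : Γ →* (𝟙_ (Over (Spec (CommRingCat.of R))) ⟶ Red.DS _ M)) :
    Γ →* (Multiplicative M →* R) :=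
  (MonoidHom.compHom ((sti R : _ →+* R) : _ →* R)).comp ((dsEquiv _ M).symm.toMonoidHom.comp ψ)

lemma chiR_apply (ψ : Γ →* (𝟙_ (Over (Spec (CommRingCat.of R))) ⟶ Red.DS _ M)) (γ : Γ)
    (l : Multiplicative M) : chiR ψ γ l = sti R (dsChar (ψ γ) l) := rfl

lemma dsChar_const (ψ : Γ →* (𝟙_ (Over (Spec (CommRingCat.of R))) ⟶ Red.DS _ M))
    (X : Over (Spec (CommRingCat.of R))) (γ : Γ) (l : Multiplicative M) :
    dsChar (toUnit X ≫ ψ γ) l = st X (chiR ψ γ l) := by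
  rw [chiR_apply, st_sti, dsChar_comp]
  rfl

variable [DecidableEq M] [Fintype Γ] {m : Type u} [Fintype m] [DecidableEq m]
  {Q : Over (Spec (CommRingCat.of R))} [GrpObj Q] (ρ : Q ⟶ GLS m (Spec (CommRingCat.of R))) [IsMonHom ρ]
  (τ : Red.DS (Spec (CommRingCat.of R)) M ⟶ Q) [hτ : IsMonHom τ]
  {Λ : Finset M} {e : M → Matrix m m R} (he : IsWt Λ e)
  (hρ : ∀ (X : Over (Spec (CommRingCat.of R))) (x : X ⟶ Red.DS _ M),
        mat (x ≫ τ ≫ ρ) = val (st X) Λ e (dsChar x))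
  (ψ : Γ →* (𝟙_ (Over (Spec (CommRingCat.of R))) ⟶ Red.DS _ M))

include hρ in
lemma mat_const (X : Over (Spec (CommRingCat.of R))) (γ : Γ) :
    mat ((toUnit X ≫ ψ γ ≫ τ) ≫ ρ) =
      val (RingHom.id Γ(X.left, ⊤)) Λ (fun l => (e l).map (st X))
        ((MonoidHom.compHom (st X : R →* Γ(X.left, ⊤))).comp (chiR ψ) γ) := by
  rw [Category.assoc, Category.assoc, ← Category.assoc, hρ, val, val]
  refine Finset.sum_congr rfl fun l _ => ?_
  rw [dsChar_const]
  rfl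

include he hρ in
/-- A point of `Q` commuting with the points `τ(ψ(γ))` commutes with `τ`. -/
theorem commute_of_tors [Mono ρ] (hs : Sep (chiR ψ) Λ) {X : Over (Spec (CommRingCat.of R))} (g : X ⟶ Q)
    (hg : ∀ γ, g * (toUnit X ≫ ψ γ ≫ τ) = (toUnit X ≫ ψ γ ≫ τ) * g)
    {Y : Over (Spec (CommRingCat.of R))} (p : Y ⟶ X) (y : Y ⟶ Red.DS _ M) :
    (p ≫ g) * (y ≫ τ) = (y ≫ τ) * (p ≫ g) := by
  have h1 : ∀ k, mat (g ≫ ρ) * (e k).map (st X) = (e k).map (st X) * mat (g ≫ ρ) := by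
    refine commute_e (hs.map (st X)) (he.map (st X)) fun γ => ?_
    rw [← mat_const ρ τ hρ ψ X γ, ← mat_mul, ← mat_mul, ← MonObj.mul_comp, ← MonObj.mul_comp, hg γ]
  have h2 : ∀ k, mat ((p ≫ g) ≫ ρ) * (e k).map (st Y) = (e k).map (st Y) * mat ((p ≫ g) ≫ ρ) := by
    intro k
    have h3 := congrArg (fun N => N.map p.left.appTop.hom) (h1 k)
    simp only [map_eq_ringHom_mapMatrix, map_mul] at h3
    rw [Category.assoc, mat_comp]
    have h4 : (st Y).mapMatrix (e k) = p.left.appTop.hom.mapMatrix ((st X).mapMatrix (e k)) := by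
      rw [← appTop_comp_st p]
      rfl
    rw [map_eq_ringHom_mapMatrix, h4]
    exact h3
  rw [← cancel_mono ρ, MonObj.mul_comp, MonObj.mul_comp]
  apply mat_injective
  rw [mat_mul, mat_mul, Category.assoc y, hρ, val, Finset.mul_sum, Finset.sum_mul]
  refine Finset.sum_congr rfl fun k _ => ?_
  rw [Matrix.mul_smul, Matrix.smul_mul, h2]

include he hρ in
/-- Conjugates of `τ` are determined by their restrictions to `Γ`. -/
theorem conj_eq_of_tors [Mono ρ] (hs : Sep (chiR ψ) Λ) {X : Over (Spec (CommRingCat.of R))} (g h : X ⟶ Q)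
    (hg : ∀ γ, g * (toUnit X ≫ ψ γ ≫ τ) * g⁻¹ = h * (toUnit X ≫ ψ γ ≫ τ) * h⁻¹)
    {Y : Over (Spec (CommRingCat.of R))} (p : Y ⟶ X) (y : Y ⟶ Red.DS _ M) :
    (p ≫ g) * (y ≫ τ) * (p ≫ g)⁻¹ = (p ≫ h) * (y ≫ τ) * (p ≫ h)⁻¹ := by
  have h1 := commute_of_tors ρ τ he hρ ψ hs (h⁻¹ * g) (fun γ => grp1 (hg γ)) p y
  rw [MonObj.comp_mul, GrpObj.comp_inv] at h1
  exact grp2 h1

lemma ds_mul_comm {X : Over (Spec (CommRingCat.of R))} (x y : X ⟶ Red.DS _ M) : x * y = y * x := by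
  rw [← dsEquiv_dsChar x, ← dsEquiv_dsChar y, ← map_mul, ← map_mul, mul_comm]

include he hρ hτ in
/-- If `k` permutes the points `τ(ψ(Γ))` then `k τ k⁻¹` commutes with `τ`. -/
theorem commute_conj_of_tors [Mono ρ] (hs : Sep (chiR ψ) Λ) {X : Over (Spec (CommRingCat.of R))} (k : X ⟶ Q)
    (α : MulAut Γ)
    (hk : ∀ γ, k * (toUnit X ≫ ψ γ ≫ τ) * k⁻¹ = toUnit X ≫ ψ (α γ) ≫ τ)
    {Y : Over (Spec (CommRingCat.of R))} (p : Y ⟶ X) (y y' : Y ⟶ Red.DS _ M) :
    ((p ≫ k) * (y ≫ τ) * (p ≫ k)⁻¹) * (y' ≫ τ) = (y' ≫ τ) * ((p ≫ k) * (y ≫ τ) * (p ≫ k)⁻¹) := by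
  -- `k⁻¹ τ(y') k` commutes with the points of `Γ`
  have h1 : ∀ γ, ((p ≫ k)⁻¹ * (y' ≫ τ) * (p ≫ k)) * (toUnit Y ≫ ψ γ ≫ τ) =
      (toUnit Y ≫ ψ γ ≫ τ) * ((p ≫ k)⁻¹ * (y' ≫ τ) * (p ≫ k)) := by
    intro γ
    have h2 : (p ≫ k) * (toUnit Y ≫ ψ γ ≫ τ) * (p ≫ k)⁻¹ = toUnit Y ≫ ψ (α γ) ≫ τ := by
      have h3 := congrArg (fun z => p ≫ z) (hk γ)
      simp only [MonObj.comp_mul, GrpObj.comp_inv] at h3
      rw [← Category.assoc p (toUnit X), ← Category.assoc p (toUnit X), comp_toUnit] at h3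
      exact h3
    have h4 : (y' ≫ τ) * (toUnit Y ≫ ψ (α γ) ≫ τ) = (toUnit Y ≫ ψ (α γ) ≫ τ) * (y' ≫ τ) := by
      have e1 : ∀ z w : Y ⟶ Red.DS _ M, (z ≫ τ) * (w ≫ τ) = (z * w) ≫ τ := fun z w => by
        rw [MonObj.mul_comp]
      rw [← Category.assoc (toUnit Y), e1, e1, ds_mul_comm]
    rw [← h2] at h4
    exact grp3 h4
  have h6 := commute_of_tors ρ τ he hρ ψ hs _ h1 (𝟙 Y) y
  rw [Category.id_comp] at h6
  exact grp4 h6

end scheme

end Groth.Agent.Sga3.H765.TorsFix
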