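import Groth.Agent.Sga3B.DSPts
import Groth.Agent.Sga3B.GLn

/-!
# Homomorphisms `D(M) ⟶ GL_m` over an affine base and systems of orthogonal idempotent matrices

`st X : R →+* Γ(X, ⊤)` for `X : Over (Spec R)`.

* `IsWt Λ e`: `e : M → Mat_m(R)` is a system of orthogonal idempotents with sum `1`, supported in `Λ`.
* `exists_isWt`: a homomorphism `τ : D(M) ⟶ GL_m` is given by such a system: `τ(x) = ∑ χ_λ(x) e_λ`.
* `exists_hom`: every such system comes from a homomorphism.
-/

set_option autoImplicit false
set_option linter.unusedSectionVars false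
universe u
open CategoryTheory MonoidalCategory CartesianMonoidalCategory MonObj GrpObj AlgebraicGeometry Limits

namespace Groth.Agent.Sga3.H765.WtMat

open Groth.Agent.Sga3B.DSPts Groth.Agent.Sga3B.GLn

section st

variable {R : Type u} [CommRing R]

/-- the structure map `R → Γ(X, ⊤)` -/
noncomputable def st (X : Over (Spec (CommRingCat.of R))) : R →+* Γ(X.left, ⊤) :=
  (X.hom.appTop.hom).comp (Scheme.ΓSpecIso (CommRingCat.of R)).inv.hom

lemma st_apply (X : Over (Spec (CommRingCat.of R))) (r : R) :
    st X r = X.hom.appTop ((Scheme.ΓSpecIso (CommRingCat.of R)).inv r) := rfl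

lemma appTop_st {X Y : Over (Spec (CommRingCat.of R))} (f : X ⟶ Y) (r : R) :
    f.left.appTop (st Y r) = st X r := by
  rw [st_apply, st_apply, ← Over.w f, Scheme.Hom.comp_appTop]
  rfl

lemma appTop_comp_st {X Y : Over (Spec (CommRingCat.of R))} (f : X ⟶ Y) :
    f.left.appTop.hom.comp (st Y) = st X := RingHom.ext (appTop_st f)

end st

section algebra

variable {R : Type u} [CommRing R] {M : Type} [AddCommGroup M] {m : Type u} [Fintype m] [DecidableEq m]

/-- systems of orthogonal idempotent matrices indexed by `M` -/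
structure IsWt [DecidableEq M] (Λ : Finset M) (e : M → Matrix m m R) : Prop where
  supp : ∀ l, l ∉ Λ → e l = 0
  mul : ∀ l k, e l * e k = if l = k then e l else 0
  sum : ∑ l ∈ Λ, e l = 1

variable [DecidableEq M] {Λ : Finset M} {e : M → Matrix m m R}

/-- the value at a family of scalars -/
def val {A : Type u} [CommRing A] (φ : R →+* A) (Λ : Finset M) (e : M → Matrix m m R)
    (χ : Multiplicative M → A) : Matrix m m A :=
  ∑ l ∈ Λ, χ (Multiplicative.ofAdd l) • (e l).map φ

lemma val_map {A B : Type u} [CommRing A] [CommRing B] (φ : R →+* A) (ψ : A →+* B)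
    (χ : Multiplicative M → A) :
    (val φ Λ e χ).map ψ = val (ψ.comp φ) Λ e (fun l => ψ (χ l)) := by
  ext i j
  simp [val, Matrix.sum_apply, map_sum]

omit [DecidableEq M] in
lemma map_eq_ringHom_mapMatrix {A : Type u} [CommRing A] (φ : R →+* A) (N : Matrix m m R) :
    N.map φ = φ.mapMatrix N := rfl

lemma IsWt.map (h : IsWt Λ e) {A : Type u} [CommRing A] (φ : R →+* A) :
    IsWt Λ (fun l => (e l).map φ) where
  supp l hl := by simp [h.supp l hl]
  mul l k := by
    simp only [map_eq_ringHom_mapMatrix]
    rw [← map_mul, h.mul]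
    split_ifs
    · rfl
    · exact map_zero _
  sum := by
    simp only [map_eq_ringHom_mapMatrix]
    rw [← map_sum, h.sum, map_one]

lemma IsWt.val_mul (h : IsWt Λ e) {A : Type u} [CommRing A] (φ : R →+* A)
    (χ χ' : Multiplicative M → A) :
    val φ Λ e (fun l => χ l * χ' l) = val φ Λ e χ * val φ Λ e χ' := by
  have h' := h.map φ
  simp only [val]
  rw [Finset.sum_mul_sum]
  refine Finset.sum_congr rfl fun l hl => ?_
  rw [Finset.sum_eq_single l]
  · rw [smul_mul_smul_comm, h'.mul, if_pos rfl]
  · intro k _ hk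
    rw [smul_mul_smul_comm, h'.mul, if_neg (Ne.symm hk), smul_zero]
  · intro hl'
    exact absurd hl hl'

lemma IsWt.val_one (h : IsWt Λ e) {A : Type u} [CommRing A] (φ : R →+* A) :
    val φ Λ e (fun _ => 1) = 1 := by
  simp only [val, one_smul]
  exact (h.map φ).sum

lemma IsWt.val_mul_e (h : IsWt Λ e) {A : Type u} [CommRing A] (φ : R →+* A)
    (χ : Multiplicative M → A) (l : M) :
    val φ Λ e χ * (e l).map φ = χ (Multiplicative.ofAdd l) • (e l).map φ := by
  have h' := h.map φ
  simp only [val]
  rw [Finset.sum_mul]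
  by_cases hl : l ∈ Λ
  · rw [Finset.sum_eq_single l]
    · rw [Matrix.smul_mul, h'.mul, if_pos rfl]
    · intro k _ hk
      rw [Matrix.smul_mul, h'.mul, if_neg hk, smul_zero]
    · intro hl'
      exact absurd hl hl'
  · rw [h.supp l hl]
    simp

end algebra

section hom

variable {R : Type u} [CommRing R] {M : Type} [AddCommGroup M] {m : Type u} [Fintype m] [DecidableEq m]

/-- the affine scheme `Spec A` over `Spec R` -/
noncomputable abbrev SP {A : Type u} [CommRing A] (φ : R →+* A) : Over (Spec (CommRingCat.of R)) :=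
  Over.mk (Spec.map (CommRingCat.ofHom φ))

/-- functions on `Spec A` -/
noncomputable def sp {A : Type u} [CommRing A] (φ : R →+* A) : A →+* Γ((SP φ).left, ⊤) :=
  (Scheme.ΓSpecIso (CommRingCat.of A)).inv.hom

/-- functions on `Spec A` -/
noncomputable def spi {A : Type u} [CommRing A] (φ : R →+* A) : Γ((SP φ).left, ⊤) →+* A :=
  (Scheme.ΓSpecIso (CommRingCat.of A)).hom.hom

lemma spi_sp {A : Type u} [CommRing A] (φ : R →+* A) (a : A) : spi φ (sp φ a) = a := by
  simp [spi, sp]

lemma sp_spi {A : Type u} [CommRing A] (φ : R →+* A) (a) : sp φ (spi φ a) = a := by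
  simp [spi, sp]

lemma sp_injective {A : Type u} [CommRing A] (φ : R →+* A) : Function.Injective (sp φ) :=
  Function.LeftInverse.injective (spi_sp φ)

lemma st_SP {A : Type u} [CommRing A] (φ : R →+* A) (r : R) : st (SP φ) r = sp φ (φ r) := by
  rw [st_apply]
  have := Scheme.ΓSpecIso_inv_naturality (CommRingCat.ofHom φ)
  exact (congr($(this).hom r)).symm

/-- the point of `Spec A` with values in `X` attached to a ring map `A → Γ(X)` over `R` -/
noncomputable def toSP {A : Type u} [CommRing A] (φ : R →+* A) (X : Over (Spec (CommRingCat.of R)))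
    (g : A →+* Γ(X.left, ⊤)) (hg : g.comp φ = st X) : X ⟶ SP φ :=
  Over.homMk (X.left.toSpecΓ ≫ Spec.map (CommRingCat.ofHom g)) (by
    change (X.left.toSpecΓ ≫ Spec.map (CommRingCat.ofHom g)) ≫ Spec.map (CommRingCat.ofHom φ) = X.hom
    rw [Category.assoc, ← Spec.map_comp, ← CommRingCat.ofHom_comp, hg, st,
      CommRingCat.ofHom_comp, Spec.map_comp]
    have h1 := Scheme.toSpecΓ_naturality_assoc X.hom
      (Spec.map (Scheme.ΓSpecIso (CommRingCat.of R)).inv)
    simp only [CommRingCat.ofHom_hom]
    rw [← h1]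
    simp)

lemma toSP_appTop {A : Type u} [CommRing A] (φ : R →+* A) (X : Over (Spec (CommRingCat.of R)))
    (g : A →+* Γ(X.left, ⊤)) (hg : g.comp φ = st X) (a : A) :
    (toSP φ X g hg).left.appTop (sp φ a) = g a := by
  change (X.left.toSpecΓ ≫ Spec.map (CommRingCat.ofHom g)).appTop _ = _
  rw [Scheme.Hom.comp_appTop, CommRingCat.comp_apply]
  have h2 := Scheme.ΓSpecIso_inv_naturality (CommRingCat.ofHom g)
  have h3 : (Spec.map (CommRingCat.ofHom g)).appTop (sp φ a) =
      (Scheme.ΓSpecIso (CommRingCat.of Γ(X.left, ⊤))).inv (g a) := (congr($(h2).hom a)).symm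
  rw [h3, Scheme.toSpecΓ_appTop, ← CommRingCat.comp_apply]
  have h4 : (Scheme.ΓSpecIso (CommRingCat.of Γ(X.left, ⊤))).inv ≫
      (Scheme.ΓSpecIso Γ(X.left, ⊤)).hom = 𝟙 _ := Iso.inv_hom_id _
  exact congr($(h4).hom (g a))

/-- the ring map `R[M] → Γ(X)` attached to a character -/
noncomputable def evm (X : Over (Spec (CommRingCat.of R))) (χ : Multiplicative M →* Γ(X.left, ⊤)) :
    MonoidAlgebra R (Multiplicative M) →+* Γ(X.left, ⊤) :=
  letI := (st X).toAlgebra
  (MonoidAlgebra.lift R Γ(X.left, ⊤) (Multiplicative M) χ).toRingHom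

lemma evm_apply (X : Over (Spec (CommRingCat.of R))) (χ : Multiplicative M →* Γ(X.left, ⊤))
    (f : MonoidAlgebra R (Multiplicative M)) (s : Finset (Multiplicative M))
    (hs : f.coeff.support ⊆ s) :
    evm X χ f = ∑ l ∈ s, χ l * st X (f.coeff l) := by
  let := (st X).toAlgebra
  change MonoidAlgebra.lift R Γ(X.left, ⊤) (Multiplicative M) χ f = _
  rw [MonoidAlgebra.lift_apply, Finsupp.sum_of_support_subset _ hs]
  · refine Finset.sum_congr rfl fun l _ => ?_
    rw [Algebra.smul_def, mul_comm]
    rfl
  · intro l _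
    rw [zero_smul]

lemma evm_single (X : Over (Spec (CommRingCat.of R))) (χ : Multiplicative M →* Γ(X.left, ⊤))
    (l : Multiplicative M) : evm X χ (MonoidAlgebra.single l 1) = χ l := by
  let := (st X).toAlgebra
  change MonoidAlgebra.lift R Γ(X.left, ⊤) (Multiplicative M) χ _ = _
  simp

/-- the structure map `R → R[M]` -/
noncomputable abbrev sm (R : Type u) [CommRing R] (M : Type) [AddCommGroup M] :
    R →+* MonoidAlgebra R (Multiplicative M) := algebraMap R (MonoidAlgebra R (Multiplicative M))

lemma evm_comp (X : Over (Spec (CommRingCat.of R))) (χ : Multiplicative M →* Γ(X.left, ⊤)) :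
    (evm X χ).comp (sm R M) = st X := by
  let := (st X).toAlgebra
  ext r
  exact (MonoidAlgebra.lift R Γ(X.left, ⊤) (Multiplicative M) χ).commutes r

/-- the universal character -/
noncomputable def uchar (R : Type u) [CommRing R] (M : Type) [AddCommGroup M] :
    Multiplicative M →* Γ((SP (sm R M)).left, ⊤) :=
  ((sp (sm R M)) : _ →* _).comp (MonoidAlgebra.of R (Multiplicative M))

/-- the universal point -/
noncomputable def upt (R : Type u) [CommRing R] (M : Type) [AddCommGroup M] :
    SP (sm R M) ⟶ Red.DS (Spec (CommRingCat.of R)) M := dsEquiv _ M (uchar R M)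

lemma toSP_upt (X : Over (Spec (CommRingCat.of R))) (χ : Multiplicative M →* Γ(X.left, ⊤)) :
    toSP (sm R M) X (evm X χ) (evm_comp X χ) ≫ upt R M = dsEquiv X M χ := by
  rw [upt, dsEquiv_naturality]
  congr 1
  ext l
  change (toSP (sm R M) X (evm X χ) (evm_comp X χ)).left.appTop (sp (sm R M) (MonoidAlgebra.single l 1)) = _
  rw [toSP_appTop, evm_single]
  rfl

lemma spi_comp_st {A : Type u} [CommRing A] (φ : R →+* A) : (spi φ).comp (st (SP φ)) = φ := by
  ext r
  change spi φ (st (SP φ) r) = φ r
  rw [st_SP, spi_sp]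

lemma val_single [DecidableEq M] {M' : Type} [AddCommGroup M'] (Λ : Finset M) (e : M → Matrix m m R)
    (f : M → M') (i j : m) :
    val (sm R M') Λ e (fun l => MonoidAlgebra.single (Multiplicative.ofAdd (f l.toAdd)) 1) i j =
      ∑ l ∈ Λ, MonoidAlgebra.single (Multiplicative.ofAdd (f l)) (e l i j) := by
  rw [val, Matrix.sum_apply]
  refine Finset.sum_congr rfl fun l _ => ?_
  rw [Matrix.smul_apply, Matrix.map_apply, smul_eq_mul, mul_comm, ← Algebra.smul_def]
  simp

lemma val_single_mul [DecidableEq M] (Λ : Finset M) (e : M → Matrix m m R) (i j : m) :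
    (val (sm R (M × M)) Λ e (fun l => MonoidAlgebra.single (Multiplicative.ofAdd (l.toAdd, 0)) 1) *
      val (sm R (M × M)) Λ e (fun l => MonoidAlgebra.single (Multiplicative.ofAdd (0, l.toAdd)) 1)) i j =
      ∑ l ∈ Λ, ∑ k ∈ Λ, MonoidAlgebra.single (Multiplicative.ofAdd (l, k)) ((e l * e k) i j) := by
  rw [Matrix.mul_apply]
  simp only [val_single (f := fun l : M => (l, (0 : M))), val_single (f := fun l : M => ((0 : M), l)),
    Finset.sum_mul_sum, MonoidAlgebra.single_mul_single]
  rw [Finset.sum_comm]
  refine Finset.sum_congr rfl fun l _ => ?_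
  rw [Finset.sum_comm]
  refine Finset.sum_congr rfl fun k _ => ?_
  rw [Matrix.mul_apply]
  have h1 : ∀ f : m → R, ∑ x, MonoidAlgebra.single (Multiplicative.ofAdd ((l, k) : M × M)) (f x) =
      MonoidAlgebra.single (Multiplicative.ofAdd (l, k)) (∑ x, f x) := fun f =>
    (map_sum (MonoidAlgebra.singleAddHom (Multiplicative.ofAdd ((l, k) : M × M))) f Finset.univ).symm
  rw [← h1]
  refine Finset.sum_congr rfl fun i _ => ?_
  rw [← ofAdd_add]
  simp

/-- **The weight decomposition** of a homomorphism `D(M) ⟶ GL_m`. -/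
theorem exists_isWt [DecidableEq M] (τ : Red.DS (Spec (CommRingCat.of R)) M ⟶ GLS m (Spec (CommRingCat.of R)))
    [IsMonHom τ] : ∃ (Λ : Finset M) (e : M → Matrix m m R), IsWt Λ e ∧
      ∀ (X : Over (Spec (CommRingCat.of R))) (x : X ⟶ Red.DS _ M),
        mat (x ≫ τ) = val (st X) Λ e (dsChar x) := by
  classical
  let N : Matrix m m (MonoidAlgebra R (Multiplicative M)) := (mat (upt R M ≫ τ)).map (spi (sm R M))
  let e : M → Matrix m m R := fun l => N.map (fun f => f.coeff (Multiplicative.ofAdd l))
  let Λ : Finset M := Finset.univ.biUnion fun i => Finset.univ.biUnion fun j =>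
    (N i j).coeff.support.image Multiplicative.toAdd
  have hΛ : ∀ i j, (N i j).coeff.support ⊆ Λ.image Multiplicative.ofAdd := by
    intro i j l hl
    rw [Finset.mem_image]
    refine ⟨Multiplicative.toAdd l, ?_, rfl⟩
    simp only [Λ, Finset.mem_biUnion, Finset.mem_univ, true_and, Finset.mem_image]
    exact ⟨i, j, l, hl, rfl⟩
  have hsupp : ∀ l, l ∉ Λ → e l = 0 := by
    intro l hl
    ext i j
    change (N i j).coeff (Multiplicative.ofAdd l) = 0
    by_contra h
    apply hl
    have h1 := hΛ i j (Finsupp.mem_support_iff.mpr h)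
    rw [Finset.mem_image] at h1
    obtain ⟨k, hk, hkl⟩ := h1
    rw [← Multiplicative.ofAdd.injective hkl]
    exact hk
  have key : ∀ (X : Over (Spec (CommRingCat.of R))) (x : X ⟶ Red.DS _ M),
      mat (x ≫ τ) = val (st X) Λ e (dsChar x) := by
    intro X x
    have h1 : x ≫ τ = toSP (sm R M) X (evm X (dsChar x)) (evm_comp X _) ≫ upt R M ≫ τ := by
      rw [← Category.assoc, toSP_upt, dsEquiv_dsChar]
    rw [h1, mat_comp]
    ext i j
    rw [pull_apply, ← sp_spi (sm R M) (mat (upt R M ≫ τ) i j), toSP_appTop]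
    change evm X (dsChar x) (N i j) = _
    rw [evm_apply X (dsChar x) _ _ (hΛ i j), Finset.sum_image (by simp)]
    simp [val, Matrix.sum_apply, e, N]
  refine ⟨Λ, e, ⟨hsupp, ?_, ?_⟩, key⟩
  · intro l k
    -- universal pair
    let i1 : M →+ M × M := AddMonoidHom.inl M M
    let i2 : M →+ M × M := AddMonoidHom.inr M M
    let X := SP (sm R (M × M))
    let x : X ⟶ Red.DS _ M := dsEquiv X M ((uchar R (M × M)).comp (AddMonoidHom.toMultiplicative i1))
    let y : X ⟶ Red.DS _ M := dsEquiv X M ((uchar R (M × M)).comp (AddMonoidHom.toMultiplicative i2))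
    have h1 : mat ((x * y) ≫ τ) = mat (x ≫ τ) * mat (y ≫ τ) := by
      rw [← mat_mul, MonObj.mul_comp]
    rw [key, key, key, dsChar_mul, dsChar_dsEquiv, dsChar_dsEquiv] at h1
    have h2 := congrArg (fun A => A.map (spi (sm R (M × M)))) h1
    simp only [map_eq_ringHom_mapMatrix, map_mul] at h2
    simp only [← map_eq_ringHom_mapMatrix, val_map] at h2
    rw [spi_comp_st] at h2
    have e1 : (fun l' : Multiplicative M => spi (sm R (M × M))
        (((uchar R (M × M)).comp (AddMonoidHom.toMultiplicative i1)) l')) =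
        fun l' => MonoidAlgebra.single (Multiplicative.ofAdd (l'.toAdd, (0 : M))) 1 := by
      funext l'
      exact spi_sp _ _
    have e2 : (fun l' : Multiplicative M => spi (sm R (M × M))
        (((uchar R (M × M)).comp (AddMonoidHom.toMultiplicative i2)) l')) =
        fun l' => MonoidAlgebra.single (Multiplicative.ofAdd ((0 : M), l'.toAdd)) 1 := by
      funext l'
      exact spi_sp _ _
    have e3 : (fun l' : Multiplicative M => spi (sm R (M × M))
        (((uchar R (M × M)).comp (AddMonoidHom.toMultiplicative i1) *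
          (uchar R (M × M)).comp (AddMonoidHom.toMultiplicative i2)) l')) =
        fun l' => MonoidAlgebra.single (Multiplicative.ofAdd ((fun n : M => (n, n)) l'.toAdd)) 1 := by
      funext l'
      rw [MonoidHom.mul_apply, map_mul]
      refine (congrArg₂ _ (congrFun e1 l') (congrFun e2 l')).trans ?_
      rw [MonoidAlgebra.single_mul_single, ← ofAdd_add]
      simp
    rw [e1, e2, e3] at h2
    ext i j
    have h3 := congrFun (congrFun h2 i) j
    have h3' := (val_single Λ e (fun n : M => (n, n)) i j).symm.trans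
      (h3.trans (val_single_mul Λ e i j))
    have h4 := congrArg (fun f => f.coeff (Multiplicative.ofAdd ((l, k) : M × M))) h3'
    simp only [MonoidAlgebra.coeff_sum, Finsupp.finsetSum_apply, MonoidAlgebra.coeff_single,
      Finsupp.single_apply, EmbeddingLike.apply_eq_iff_eq, Prod.mk.injEq] at h4
    have h5 : (e l * e k) i j = ∑ x ∈ Λ, ∑ y ∈ Λ, if x = l ∧ y = k then (e x * e y) i j else 0 := by
      by_cases hl : l ∈ Λ
      · by_cases hk : k ∈ Λ
        · rw [Finset.sum_eq_single l, Finset.sum_eq_single k]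
          · simp
          · intro y _ hy
            simp [hy]
          · intro hk'
            exact absurd hk hk'
          · intro x _ hx
            simp [hx]
          · intro hl'
            exact absurd hl hl'
        · rw [hsupp k hk, mul_zero, Finset.sum_eq_zero]
          · rfl
          · intro x _
            refine Finset.sum_eq_zero fun y hy => ?_
            rw [if_neg]
            rintro ⟨-, rfl⟩
            exact hk hy
      · rw [hsupp l hl, zero_mul, Finset.sum_eq_zero]
        · rfl
        · intro x hx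
          refine Finset.sum_eq_zero fun y hy => ?_
          rw [if_neg]
          rintro ⟨rfl, -⟩
          exact hl hx
    rw [h5, ← h4]
    by_cases hlk : l = k
    · subst hlk
      by_cases hl : l ∈ Λ
      · rw [Finset.sum_eq_single l]
        · simp
        · intro y _ hy
          simp [hy]
        · intro hl'
          exact absurd hl hl'
      · rw [Finset.sum_eq_zero]
        · simp [hsupp l hl]
        · intro x hx
          rw [if_neg]
          rintro ⟨rfl, -⟩
          exact hl hx
    · rw [Finset.sum_eq_zero]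
      · simp [hlk]
      · intro x _
        rw [if_neg]
        rintro ⟨rfl, h⟩
        exact hlk h
  · have h1 : mat ((1 : SP (RingHom.id R) ⟶ Red.DS (Spec (CommRingCat.of R)) M) ≫ τ) = 1 := by
      rw [MonObj.one_comp, mat_one]
    rw [key] at h1
    have h2 := congrArg (fun A => A.map (spi (RingHom.id R))) h1
    simp only [val_map] at h2
    rw [spi_comp_st] at h2
    have e1 : dsChar (1 : SP (RingHom.id R) ⟶ Red.DS (Spec (CommRingCat.of R)) M) = 1 := by
      simp [dsChar]
    have h3 : val (RingHom.id R) Λ e (fun _ : Multiplicative M => (1 : R)) = 1 := by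
      refine Eq.trans ?_ (h2.trans ?_)
      · congr 1
        funext l
        rw [e1, MonoidHom.one_apply, map_one]
      · rw [map_eq_ringHom_mapMatrix, map_one]
    simpa [val] using h3

/-- **Existence**: every system of orthogonal idempotents with sum `1` comes from a homomorphism. -/
theorem exists_hom [DecidableEq M] {Λ : Finset M} {e : M → Matrix m m R} (h : IsWt Λ e) :
    ∃ (τ : Red.DS (Spec (CommRingCat.of R)) M ⟶ GLS m (Spec (CommRingCat.of R))), IsMonHom τ ∧
      ∀ (X : Over (Spec (CommRingCat.of R))) (x : X ⟶ Red.DS _ M),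
        mat (x ≫ τ) = val (st X) Λ e (dsChar x) := by
  let D := Red.DS (Spec (CommRingCat.of R)) M
  let χ := dsChar (𝟙 D)
  have hinv : val (st D) Λ e χ * val (st D) Λ e (fun l => χ l⁻¹) = 1 := by
    rw [← h.val_mul]
    have : (fun l => χ l * χ l⁻¹) = fun _ => 1 := by
      funext l
      rw [← map_mul, mul_inv_cancel, map_one]
    rw [this, h.val_one]
  have hdet : IsUnit (val (st D) Λ e χ).det := by
    refine IsUnit.of_mul_eq_one (val (st D) Λ e (fun l => χ l⁻¹)).det ?_
    rw [← Matrix.det_mul, hinv, Matrix.det_one]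
  have key : ∀ (X : Over (Spec (CommRingCat.of R))) (x : X ⟶ Red.DS _ M),
        mat (x ≫ ofMat (val (st D) Λ e χ) hdet) = val (st X) Λ e (dsChar x) := by
    intro X x
    have h1 : pull m x.left (val (st D) Λ e χ) = (val (st D) Λ e χ).map x.left.appTop.hom := rfl
    rw [mat_comp, mat_ofMat, h1, val_map, appTop_comp_st]
    congr 1
    funext l
    have h2 := dsChar_comp x (𝟙 D)
    rw [Category.comp_id] at h2
    rw [h2]
    rfl
  refine ⟨ofMat (val (st D) Λ e χ) hdet, isMonHom_of_mat _ fun T x y => ?_, key⟩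
  rw [key, key, key, dsChar_mul]
  exact h.val_mul _ _ _

/-- Uniqueness. -/
theorem eq_of_val [DecidableEq M] {τ τ' : Red.DS (Spec (CommRingCat.of R)) M ⟶ GLS m (Spec (CommRingCat.of R))}
    {Λ : Finset M} {e : M → Matrix m m R}
    (h : ∀ (X : Over (Spec (CommRingCat.of R))) (x : X ⟶ Red.DS _ M),
        mat (x ≫ τ) = val (st X) Λ e (dsChar x))
    (h' : ∀ (X : Over (Spec (CommRingCat.of R))) (x : X ⟶ Red.DS _ M),
        mat (x ≫ τ') = val (st X) Λ e (dsChar x)) : τ = τ' := by
  rw [← Category.id_comp τ, ← Category.id_comp τ']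
  apply mat_injective
  rw [h, h']

end hom

end Groth.Agent.Sga3.H765.WtMat
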